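import Groth.Agent.RelVALib.QuasiProj
import Groth.Agent.RelVALib.Chow
import Groth.Agent.CAlgSmall.ProjMore
import Groth.Agent.RelVALib.Finite
import Groth.Agent.AmpleLib.Compose
import Groth.Agent.FlatMorAdm.BlowUpProj
import Groth.Agent.H8Coh.FibreQProj
import Groth.Agent.NeronLib.NormalSmooth
import Groth.Agent.VarietyLib.DivisorGlue
import Groth.Agent.CurvesLib24.Basic
import Groth.Agent.CAlgH3.RegularLocal
import Groth.Agent.Models7.PointBlowUpIso
import Groth.Agent.S4415
import Groth.Agent.S7307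
import Groth.Agent.S7311
import Groth.Agent.S7308
import Groth.Agent.S7320
import Groth.Agent.S11555

/-! Regular surfaces separated of finite type over a Noetherian base are quasi-projective. -/

set_option autoImplicit false
set_option backward.isDefEq.respectTransparency.types false
set_option linter.style.haveILetI false

universe u

open CategoryTheory CategoryTheory.Limits AlgebraicGeometry TopologicalSpace

namespace Groth.Agent.QProjSurf13

/-- Composites of quasi-projective morphisms over a compact base. -/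
theorem isQuasiProjective_comp {X Y S : Scheme.{u}} [CompactSpace S] {f : X ⟶ Y} {g : Y ⟶ S}
    (hf : RelProj.IsQuasiProjective f) (hg : RelProj.IsQuasiProjective g) : RelProj.IsQuasiProjective (f ≫ g) := by
  obtain ⟨hf1, hf2, L, hL⟩ := hf
  obtain ⟨hg1, hg2, K, hK⟩ := hg
  haveI := hf1; haveI := hf2; haveI := hg1; haveI := hg2
  obtain ⟨n, -, hn⟩ := AmpleLib.eventually_isRelAmple_comp f g hL hK
  exact ⟨inferInstance, inferInstance, _, hn n le_rfl⟩

theorem isQuasiProjective_iso_comp_iff {X Y S : Scheme.{u}} (e : X ≅ Y) (f : Y ⟶ S) :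
    RelProj.IsQuasiProjective (e.hom ≫ f) ↔ RelProj.IsQuasiProjective f :=
  (H8Coh.FibreQProj.isQuasiProjective_iff_of_arrowIso e.hom (𝟙 S) (by simp)).symm

theorem isNoetherian_of_iso {X Y : Scheme.{u}} [AlgebraicGeometry.IsNoetherian Y] (e : X ≅ Y) :
    AlgebraicGeometry.IsNoetherian X := by
  haveI : IsLocallyNoetherian X := LocallyOfFiniteType.isLocallyNoetherian e.hom
  haveI : CompactSpace X := QuasiCompact.compactSpace_of_compactSpace e.hom
  exact {}

/-- A composite of contractions is projective. -/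
theorem isProjective_contractionSeq {Y X : Scheme.{u}} {g : Y ⟶ X} (hg : Models.IsContractionSeq g) :
    AlgebraicGeometry.IsNoetherian X → RelProj.IsProjective g := by
  induction hg with
  | iso e =>
    intro _
    exact RelVALib.isProjective_of_isFinite e.hom
  | step ι b r hι hE hb _ ih =>
    intro hX
    obtain ⟨hZ, -, y, hy, -, -, -, hbl⟩ := hb
    haveI := hZ
    haveI := hX
    exact FlatMorAdm.isProjective_comp b r
      (FlatMorAdm.isProjective_blowUp (FlatMorAdm.isFiniteTypeIdeal_of_noetherian _) hbl) (ih hX)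

/-- Quasi-projectivity descends along composites of contractions. -/
theorem isQuasiProjective_of_contractionSeq {S : Scheme.{u}} [AlgebraicGeometry.IsNoetherian S]
    {Y X : Scheme.{u}} {g : Y ⟶ X} (hg : Models.IsContractionSeq g) :
    ∀ (f : X ⟶ S), RelProj.IsQuasiProjective (g ≫ f) → RelProj.IsQuasiProjective f := by
  induction hg with
  | iso e =>
    intro f h
    exact (isQuasiProjective_iso_comp_iff e f).1 h
  | step ι b r hι hE hb hr ih =>
    intro f h
    rename_i Y Z X E
    rw [Category.assoc] at h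
    haveI := hι
    haveI := h.1
    haveI := h.2.1
    haveI : IsLocallyNoetherian Y := LocallyOfFiniteType.isLocallyNoetherian (b ≫ r ≫ f)
    haveI : CompactSpace Y := QuasiCompact.compactSpace_of_compactSpace (b ≫ r ≫ f)
    haveI : AlgebraicGeometry.IsNoetherian Y := {}
    obtain ⟨y, hy, hrange, -⟩ := hb.2.2
    have hs : Set.range ((ι ≫ b ≫ r ≫ f).base : E → S) = {(r ≫ f) y} := by
      have : (⇑(ι ≫ b ≫ r ≫ f)) = (r ≫ f) ∘ ⇑(ι ≫ b) := by ext; simp
      rw [this, Set.range_comp, hrange, Set.image_singleton]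
    obtain ⟨X', b', g', hb', hbg, hg'⟩ := Groth.Agent.S7311.result (b ≫ r ≫ f) h ι hE _ hs
    obtain ⟨e, he, -⟩ := Groth.Agent.S7308.result ι hE b hb b' hb'
    obtain ⟨ψ, -, huniq⟩ := Groth.Agent.S7307.result ι hE b hb (b ≫ r ≫ f) _ hs
    have h1 : e.hom ≫ g' = ψ := huniq _ (by simp only [← Category.assoc, he, hbg])
    have h2 : r ≫ f = ψ := huniq _ rfl
    refine ih f ?_
    rw [h2, ← h1]
    exact (isQuasiProjective_iso_comp_iff e g').2 hg'

theorem isIso_restrict_le {X Y : Scheme.{u}} (f : X ⟶ Y) {U V : Y.Opens} (hVU : V ≤ U) [IsIso (f ∣_ U)] :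
    IsIso (f ∣_ V) := by
  have h : IsIso ((f ∣_ U) ∣_ (U.ι ⁻¹ᵁ V)) := inferInstance
  have h2 := ((MorphismProperty.isomorphisms Scheme.{u}).arrow_mk_iso_iff (morphismRestrictRestrict f U _)).1 h
  have e : U.ι ''ᵁ (U.ι ⁻¹ᵁ V) = V := by
    rw [Scheme.Hom.image_preimage_eq_opensRange_inf, Scheme.Opens.opensRange_ι, inf_eq_right.2 hVU]
  rwa [e] at h2

theorem isIso_restrict_sSup {X Y : Scheme.{u}} (f : X ⟶ Y) (s : Set Y.Opens) (h : ∀ V ∈ s, IsIso (f ∣_ V)) :
    IsIso (f ∣_ sSup s) := by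
  refine IsZariskiLocalAtTarget.of_iSup_eq_top (P := MorphismProperty.isomorphisms Scheme.{u})
    (fun V : s => (sSup s).ι ⁻¹ᵁ V.1) ?_ fun V => ?_
  · rw [← Scheme.Hom.preimage_iSup, ← sSup_eq_iSup']
    exact Scheme.Opens.ι_preimage_self _
  · show IsIso _
    refine ((MorphismProperty.isomorphisms Scheme.{u}).arrow_mk_iso_iff (morphismRestrictRestrict f _ _)).2 ?_
    show IsIso (f ∣_ (sSup s).ι ''ᵁ ((sSup s).ι ⁻¹ᵁ V.1))
    rw [Scheme.Hom.image_preimage_eq_opensRange_inf, Scheme.Opens.opensRange_ι, inf_eq_right.2 (le_sSup V.2)]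
    exact h _ V.2

/-- A point of coheight at least two is closed in dimension at most two. -/
theorem isClosed_singleton_of_dim {X : Scheme.{u}} [CompactSpace X] (hdim : topologicalKrullDim X = 2) {x : X}
    (hx : 2 ≤ ringKrullDim (X.presheaf.stalk x)) :
    IsClosed ({x} : Set X) ∧ ringKrullDim (X.presheaf.stalk x) = 2 := by
  have heq : ringKrullDim (X.presheaf.stalk x) = 2 :=
    le_antisymm ((CurvesLib24.stalk_dim_le_topologicalKrullDim x).trans hdim.le) hx
  refine ⟨?_, heq⟩
  obtain ⟨z, hz, hzc⟩ := (isClosed_closure (s := ({x} : Set X))).exists_closed_singleton (closure_nonempty_iff.2 ⟨x, rfl⟩)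
  suffices x = z by rw [this]; exact hzc
  by_contra hne
  have hsp : x ⤳ z := specializes_iff_mem_closure.2 hz
  have hlt : z < x := lt_iff_le_not_ge.2 ⟨hsp, fun h' => hne (Specializes.antisymm hsp h').eq⟩
  have h1 := (ringKrullDim_stalk_eq_coheight (X := X) x).symm.trans heq
  have h2 := (CurvesLib24.stalk_dim_le_topologicalKrullDim z).trans hdim.le
  rw [ringKrullDim_stalk_eq_coheight] at h2
  have h1' : Order.coheight x = (2 : ℕ∞) := WithBot.coe_inj.1 h1
  have h2' : Order.coheight z ≤ (2 : ℕ∞) := WithBot.coe_le_coe.1 h2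
  have h3 := Order.coheight_add_one_le hlt
  rw [h1'] at h3
  exact absurd (h3.trans h2') (by norm_num)

theorem isNormalScheme_of_regular {X : Scheme.{u}} (hX : ∀ x : X, IsRegularLocalRing (X.presheaf.stalk x)) :
    Pi1.IsNormalScheme X := fun x => by
  haveI := hX x
  haveI := CAlgH3.isDomain_of_isRegularLocalRing (X.presheaf.stalk x)
  haveI : UniqueFactorizationMonoid (X.presheaf.stalk x) := CAlgH3.ufm_of_regular _
  exact ⟨inferInstance, inferInstance⟩

/-- A modification of a normal Noetherian scheme is an isomorphism near every point of codimension at most one. -/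
theorem exists_isIso_nhd {X X' : Scheme.{u}} [IsLocallyNoetherian X] (hX : Pi1.IsNormalScheme X)
    (π : X' ⟶ X) [IsProper π] [IsReduced X'] (U : X.Opens) (hU : Dense ((π ⁻¹ᵁ U : X'.Opens) : Set X'))
    (hUd : Dense (U : Set X)) [IsIso (π ∣_ U)] (x : X) (hx : ringKrullDim (X.presheaf.stalk x) < 2) :
    ∃ V : X.Opens, x ∈ V ∧ IsIso (π ∣_ V) := by
  obtain ⟨W, hxW, hWint⟩ := NeronLib.exists_isIntegral_nhd hX x
  haveI := hWint
  let U₀ : W.toScheme.Opens := W.ι ⁻¹ᵁ U
  have hU₀ : (U₀ : Set W.toScheme).Nonempty := by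
    obtain ⟨w, hwW, hwU⟩ := hUd.inter_open_nonempty W W.2 ⟨x, hxW⟩
    exact ⟨⟨w, hwW⟩, hwU⟩
  haveI : Nonempty U₀.toScheme := ⟨⟨_, hU₀.some_mem⟩⟩
  haveI : IsIso ((π ∣_ W) ∣_ U₀) := by
    haveI : IsIso (π ∣_ (W.ι ''ᵁ U₀)) := by
      have hle : W.ι ''ᵁ U₀ ≤ U := by rintro z ⟨a, ha, rfl⟩; exact ha
      exact isIso_restrict_le π hle
    exact ((MorphismProperty.isomorphisms Scheme.{u}).arrow_mk_iso_iff (morphismRestrictRestrict π W U₀)).2 ‹_›
  have hd : Dense ((((π ∣_ W) ⁻¹ᵁ U₀) : (π ⁻¹ᵁ W).toScheme.Opens) : Set (π ⁻¹ᵁ W).toScheme) := by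
    have h1 : ((((π ∣_ W) ⁻¹ᵁ U₀) : (π ⁻¹ᵁ W).toScheme.Opens) : Set (π ⁻¹ᵁ W).toScheme)
        = Subtype.val ⁻¹' ((π ⁻¹ᵁ U : X'.Opens) : Set X') := by
      ext a
      show ((π ∣_ W) a).1 ∈ U ↔ π a.1 ∈ U
      rw [morphismRestrict_base_coe]
    rw [h1]
    exact hU.preimage (π ⁻¹ᵁ W).2.isOpenMap_subtype_val
  let V' : (π ⁻¹ᵁ W).toScheme.Opens := (π ∣_ W) ⁻¹ᵁ U₀
  haveI : IrreducibleSpace U₀.toScheme := inferInstance
  haveI : IrreducibleSpace V'.toScheme :=
    (asIso ((π ∣_ W) ∣_ U₀)).symm.hom.homeomorph.surjective.irreducibleSpace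
      (asIso ((π ∣_ W) ∣_ U₀)).symm.hom.continuous
  haveI : IrreducibleSpace (π ⁻¹ᵁ W).toScheme := by
    have hi : IsIrreducible (V' : Set (π ⁻¹ᵁ W).toScheme) := isIrreducible_iff_irreducibleSpace.2 ‹_›
    have := hi.closure
    rw [hd.closure_eq] at this
    exact (irreducibleSpace_def _).2 this
  haveI : IsIntegral (π ⁻¹ᵁ W).toScheme := isIntegral_of_irreducibleSpace_of_isReduced _
  have hη' : genericPoint (π ⁻¹ᵁ W).toScheme ∈ V' :=
    ((genericPoint_spec _).mem_open_set_iff V'.2).2 (by rw [Set.univ_inter]; exact hd.nonempty)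
  have hξ : (π ∣_ W) (genericPoint ↥(π ⁻¹ᵁ W).toScheme) = genericPoint ↥W.toScheme := by
    obtain ⟨a, ha⟩ := ((π ∣_ W) ∣_ U₀).homeomorph.surjective
      ⟨genericPoint W.toScheme, ((genericPoint_spec _).mem_open_set_iff U₀.2).2 (by simpa using hU₀)⟩
    have ha' : (π ∣_ W) a.1 = genericPoint W.toScheme :=
      (morphismRestrict_base_coe (π ∣_ W) U₀ a).symm.trans (congrArg Subtype.val ha)
    refine ((genericPoint_spec W.toScheme).eq ?_).symm
    refine isGenericPoint_iff_specializes.2 fun w => ⟨fun _ => trivial, fun _ => ?_⟩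
    exact (((genericPoint_spec _).specializes trivial).map (π ∣_ W).continuous).trans
      (ha' ▸ (genericPoint_spec W.toScheme).specializes trivial)
  have hbir : Function.Bijective ((π ∣_ W).stalkMap (genericPoint ↥(π ⁻¹ᵁ W).toScheme)) := by
    haveI : IsIso (((π ∣_ W) ∣_ U₀).stalkMap ⟨_, hη'⟩) := inferInstance
    haveI := ((MorphismProperty.isomorphisms CommRingCat.{u}).arrow_mk_iso_iff
      (morphismRestrictStalkMap (π ∣_ W) U₀ ⟨_, hη'⟩)).1 ‹_›
    exact ConcreteCategory.bijective_of_isIso ((π ∣_ W).stalkMap _)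
  have hWn : Pi1.IsNormalScheme W.toScheme := fun w => by
    have hw := hX w.1
    let e := (W.stalkIso w).commRingCatIsoToRingEquiv
    haveI := hw.1
    haveI : IsIntegrallyClosed (X.presheaf.stalk w.1) := hw.2
    exact ⟨e.toMulEquiv.isDomain _, IsIntegrallyClosed.of_equiv e.symm⟩
  obtain ⟨V, hV, -, hVdim⟩ := Groth.Agent.S11555.result (π ∣_ W) hWn hξ hbir
  refine ⟨W.ι ''ᵁ V, ⟨⟨x, hxW⟩, ?_, rfl⟩,
    ((MorphismProperty.isomorphisms Scheme.{u}).arrow_mk_iso_iff (morphismRestrictRestrict π W V)).1 hV⟩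
  by_contra h
  have h2 := hVdim _ h
  rw [ringKrullDim_eq_of_ringEquiv (W.stalkIso ⟨x, hxW⟩).commRingCatIsoToRingEquiv] at h2
  exact absurd hx (not_lt.2 h2)

theorem isQuasiProjective_of_regular_dim_two {X S : Scheme.{u}} [AlgebraicGeometry.IsNoetherian S] (f : X ⟶ S)
    [IsSeparated f] [LocallyOfFiniteType f] [QuasiCompact f]
    (hreg : ∀ x : X, IsRegularLocalRing (X.presheaf.stalk x)) (hdim : topologicalKrullDim X = 2) :
    RelProj.IsQuasiProjective f := by
  haveI : IsLocallyNoetherian X := LocallyOfFiniteType.isLocallyNoetherian f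
  haveI : CompactSpace X := QuasiCompact.compactSpace_of_compactSpace f
  haveI : AlgebraicGeometry.IsNoetherian X := {}
  have hn := isNormalScheme_of_regular hreg
  haveI := NeronLib.isReduced_of_normal hn
  obtain ⟨X', π, hqp, hproj, hsurj, ⟨U, hU, hUiso⟩, hred, -, -⟩ := Groth.Agent.S4415.result f (Or.inl inferInstance)
  haveI := hred inferInstance
  haveI := RelVALib.isProper_of_isProjective hproj
  haveI := hUiso
  haveI := hsurj
  have hUd : Dense (U : Set X) := by
    refine (hsurj.1.denseRange.dense_image π.continuous hU).mono ?_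
    exact Set.image_preimage_subset _ _
  let s : Set X.Opens := {V | IsIso (π ∣_ V)}
  let V₀ : X.Opens := sSup s
  have hV₀ : IsIso (π ∣_ V₀) := isIso_restrict_sSup π s fun V hV => hV
  have hT : ∀ x ∈ ((V₀ : Set X))ᶜ, IsClosed ({x} : Set X) ∧ IsRegularLocalRing (X.presheaf.stalk x) ∧
      ringKrullDim (X.presheaf.stalk x) = 2 := by
    intro x hx
    have h2 : 2 ≤ ringKrullDim (X.presheaf.stalk x) := not_lt.1 fun h => hx (by
      obtain ⟨V, hxV, hV⟩ := exists_isIso_nhd hn π U hU hUd x h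
      exact (le_sSup hV : V ≤ V₀) hxV)
    exact ⟨(isClosed_singleton_of_dim hdim h2).1, hreg x, (isClosed_singleton_of_dim hdim h2).2⟩
  have hTc : IsClosed ((V₀ : Set X))ᶜ := V₀.2.isClosed_compl
  have hTf := VarietyLib.finite_of_forall_isClosed hTc fun x hx => (hT x hx).1
  have hcc : (⟨((V₀ : Set X))ᶜᶜ, hTc.isOpen_compl⟩ : X.Opens) = V₀ := TopologicalSpace.Opens.ext (compl_compl _)
  obtain ⟨X'', g, hg, -, h, hh⟩ := Groth.Agent.S7320.result X _ hTf hTc hT π (by rw [hcc]; exact hV₀)
  have hgp := isProjective_contractionSeq hg inferInstance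
  have hhq : RelProj.IsQuasiProjective h := by
    haveI : IsClosedImmersion (pullback.lift (𝟙 X'') h (by rw [Category.id_comp, hh]) : X'' ⟶ pullback g π) := by
      haveI : IsClosedImmersion ((pullback.lift (𝟙 X'') h (by rw [Category.id_comp, hh]) : X'' ⟶ pullback g π) ≫
          pullback.fst g π) := by rw [pullback.lift_fst]; infer_instance
      exact IsClosedImmersion.of_comp _ (pullback.fst g π)
    have hw : 𝟙 X'' ≫ g = h ≫ π := by rw [Category.id_comp, hh]
    exact RelVALib.isQuasiProjective_of_isProjective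
      (RelVALib.isProjective_closedImmersion_comp (pullback.lift (𝟙 X'') h hw)
        (RelVALib.isProjective_baseChange (IsPullback.of_hasPullback g π) hgp) (pullback.lift_snd _ _ _))
  refine isQuasiProjective_of_contractionSeq hg f ?_
  rw [← hh, Category.assoc]
  exact isQuasiProjective_comp hhq hqp

end Groth.Agent.QProjSurf13
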